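import Cfsg.Agent.H198.FC.Defs
import Cfsg.Prelude.Def_Classical

/-!
# S5764: interface, unitary and symplectic part (helper198)

`b : Cl K V` a non-degenerate form on `V` (`b.τ` the involution of `K`), unitary or symplectic; `RB b` the ring
automorphisms of `R = End_K(V)` commuting with the adjoint (i.e. induced by semilinear similitudes, the group `PΓU(V)`
resp. `PΓSp(V)`), `FiveB b S`: five conjugates by elements of `SU(V)` resp. `Sp(V)`.
-/

set_option autoImplicit false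

namespace Cfsg.Agent.H198.FC

universe u v

/-- a non-degenerate unitary or symplectic form (linear in the first variable) -/
structure Cl (K : Type u) [Field K] (V : Type v) [AddCommGroup V] [Module K V] where
  /-- the involution of `K` -/
  τ : K ≃+* K
  /-- the form -/
  B : V → V → K
  add_left : ∀ v v' w, B (v + v') w = B v w + B v' w
  add_right : ∀ v w w', B v (w + w') = B v w + B v w'
  smul_left : ∀ (a : K) v w, B (a • v) w = a * B v w
  smul_right : ∀ (a : K) v w, B v (a • w) = τ a * B v w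
  nondeg : ∀ v, (∀ w, B v w = 0) → v = 0
  invol : ∀ a, τ (τ a) = a
  typ : ((∃ a, τ a ≠ a) ∧ ∀ v w, B w v = τ (B v w)) ∨ ((∀ a, τ a = a) ∧ ∀ v, B v v = 0)

section defs

variable {K : Type u} [Field K] {V : Type v} [AddCommGroup V] [Module K V]

namespace Cl

/-- unitary -/
def IsU (b : Cl K V) : Prop := (∃ a, b.τ a ≠ a) ∧ ∀ v w, b.B w v = b.τ (b.B v w)

/-- symplectic -/
def IsSp (b : Cl K V) : Prop := (∀ a, b.τ a = a) ∧ ∀ v, b.B v v = 0

/-- `Y` is the adjoint of `X` -/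
def Adj (b : Cl K V) (X Y : R K V) : Prop := ∀ v w, b.B (X v) w = b.B v (Y w)

/-- `W` is totally isotropic -/
def TI (b : Cl K V) (W : Submodule K V) : Prop := ∀ v ∈ W, ∀ w ∈ W, b.B v w = 0

/-- `W` is non-degenerate -/
def ND (b : Cl K V) (W : Submodule K V) : Prop := ∀ v ∈ W, (∀ w ∈ W, b.B v w = 0) → v = 0

/-- `x` is an isometry -/
def Isom (b : Cl K V) (x : R K V) : Prop := ∀ v w, b.B (x v) (x w) = b.B v w

end Cl

/-- ring automorphisms of `R` commuting with the adjoint -/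
def RB (b : Cl K V) : Subgroup (Equiv.Perm (R K V)) where
  carrier := {f | f ∈ RP K V ∧ ∀ X Y, b.Adj X Y ↔ b.Adj (f X) (f Y)}
  one_mem' := ⟨one_mem _, fun _ _ => Iff.rfl⟩
  mul_mem' := by
    rintro f g ⟨hf0, hf⟩ ⟨hg0, hg⟩
    refine ⟨mul_mem hf0 hg0, fun X Y => ?_⟩
    rw [hg X Y, hf (g X) (g Y)]
    rfl
  inv_mem' := by
    rintro f ⟨hf0, hf⟩
    refine ⟨inv_mem hf0, fun X Y => ?_⟩
    rw [hf (f⁻¹ X) (f⁻¹ Y)]
    simp

/-- `S ∩ S^{x₁} ∩ ⋯ ∩ S^{x₄} = 1` for some isometries `xᵢ` of determinant 1 -/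
def FiveB (b : Cl K V) (S : Subgroup (Equiv.Perm (R K V))) : Prop :=
  ∃ x : Fin 4 → (R K V)ˣ, (∀ i, LinearMap.det ((x i : (R K V)ˣ) : R K V) = 1) ∧ (∀ i, b.Isom (x i)) ∧
    ∀ f ∈ S, (∀ i, cj K V (x i) * f * (cj K V (x i))⁻¹ ∈ S) → f = 1

theorem FiveB.mono {b : Cl K V} {S S' : Subgroup (Equiv.Perm (R K V))} (h : S ≤ S') (hF : FiveB b S') :
    FiveB b S := by
  obtain ⟨x, hx, hx', hS⟩ := hF
  exact ⟨x, hx, hx', fun f hf hi => hS f (h hf) fun i => h (hi i)⟩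

end defs

/-- the numerical restrictions: unitary `n ≥ 3`, not `(3, 2)`; symplectic `n ≥ 4`, not `(4, 2)` -/
def Cl.Big {K : Type u} [Field K] {V : Type v} [AddCommGroup V] [Module K V] (b : Cl K V) : Prop :=
  (b.IsU ∧ 3 ≤ Module.finrank K V ∧ (Module.finrank K V = 3 → Nat.card K ≠ 4)) ∨
  (b.IsSp ∧ 4 ≤ Module.finrank K V ∧ (Module.finrank K V = 4 → 3 ≤ Nat.card K))

/-- **Unitary and symplectic groups, final statement.** -/
def ThmB : Prop :=
  ∀ (K : Type u) [Field K] [Finite K] (V : Type v) [AddCommGroup V] [Module K V] [Module.Finite K V] (b : Cl K V),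
    b.Big → ∀ S : Subgroup (Equiv.Perm (R K V)), S ≤ RB b → Group.IsSolvable S → FiveB b S

/-- `FiveAut` for the unitary groups -/
def StmtAutU : Prop :=
  ∀ (F : Type) [Field F] [Fintype F] (n q : ℕ), Fintype.card F = q ^ 2 → 3 ≤ n → ¬ (n = 3 ∧ q = 2) →
    FiveAut (Cfsg.PSU n F q)

/-- `FiveAut` for the symplectic groups (including `PSp₄(2^f)` with graph automorphisms) -/
def StmtAutSp : Prop :=
  ∀ (F : Type) [Field F] [Fintype F] (m : ℕ), 2 ≤ m → (m = 2 → 3 ≤ Fintype.card F) →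
    FiveAut (Cfsg.PSp m F)

/-- `S` contains no non-trivial inner-diagonal automorphism -/
def StmtBS00 : Prop :=
  ∀ (K : Type u) [Field K] [Finite K] (V : Type v) [AddCommGroup V] [Module K V] [Module.Finite K V] (b : Cl K V),
    b.Big → ∀ S : Subgroup (Equiv.Perm (R K V)), S ≤ RB b → Group.IsSolvable S → S ⊓ IN K V = ⊥ → FiveB b S

/-- parabolic case: `S` fixes a totally isotropic subspace -/
def StmtBPar : Prop :=
  ∀ (K : Type u) [Field K] [Finite K] (V : Type v) [AddCommGroup V] [Module K V] [Module.Finite K V] (b : Cl K V),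
    b.Big → ∀ S : Subgroup (Equiv.Perm (R K V)), S ≤ RB b → Group.IsSolvable S →
    (∃ W : Submodule K V, W ≠ ⊥ ∧ b.TI W ∧ ∀ f ∈ S, Stb f W) → FiveB b S

/-- `S` fixes a proper non-degenerate subspace (and no totally isotropic one) -/
def StmtBC1 : Prop :=
  ∀ (K : Type u) [Field K] [Finite K] (V : Type v) [AddCommGroup V] [Module K V] [Module.Finite K V] (b : Cl K V),
    b.Big → ∀ S : Subgroup (Equiv.Perm (R K V)), S ≤ RB b → Group.IsSolvable S →
    (∀ W : Submodule K V, b.TI W → (∀ f ∈ S, Stb f W) → W = ⊥) →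
    (∃ W : Submodule K V, W ≠ ⊥ ∧ W ≠ ⊤ ∧ b.ND W ∧ ∀ f ∈ S, Stb f W) → FiveB b S

/-- `S` permutes the members of an orthogonal decomposition into `k ≥ 2` non-degenerate subspaces of the same
dimension (given by their projections, which are self-adjoint) -/
def StmtBC2 : Prop :=
  ∀ (K : Type u) [Field K] [Finite K] (V : Type v) [AddCommGroup V] [Module K V] [Module.Finite K V] (b : Cl K V),
    b.Big → ∀ S : Subgroup (Equiv.Perm (R K V)), S ≤ RB b → Group.IsSolvable S →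
    ∀ (k d : ℕ) (e : Fin k → R K V), 2 ≤ k → 1 ≤ d → CompleteOrthogonalIdempotents e → (∀ i, b.Adj (e i) (e i)) →
    (∀ i, Module.finrank K (LinearMap.range (e i)) = d) →
    (∀ f ∈ S, ∃ π : Equiv.Perm (Fin k), ∀ i, f (e i) = e (π i)) → FiveB b S

/-- `S` stabilizes a pair `{A, A'}` of totally isotropic subspaces with `V = A ⊕ A'` (given by its projections
`e 0, e 1`, adjoint to each other) -/
def StmtBC2' : Prop :=
  ∀ (K : Type u) [Field K] [Finite K] (V : Type v) [AddCommGroup V] [Module K V] [Module.Finite K V] (b : Cl K V),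
    b.Big → ∀ S : Subgroup (Equiv.Perm (R K V)), S ≤ RB b → Group.IsSolvable S →
    ∀ (e : Fin 2 → R K V), CompleteOrthogonalIdempotents e → b.Adj (e 0) (e 1) →
    (∀ f ∈ S, ∃ π : Equiv.Perm (Fin 2), ∀ i, f (e i) = e (π i)) → FiveB b S

/-- `S` normalizes a subfield `E ⊃ K` of `R` of prime degree over `K`, stable under the adjoint -/
def StmtBC3 : Prop :=
  ∀ (K : Type u) [Field K] [Finite K] (V : Type v) [AddCommGroup V] [Module K V] [Module.Finite K V] (b : Cl K V),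
    b.Big → ∀ S : Subgroup (Equiv.Perm (R K V)), S ≤ RB b → Group.IsSolvable S →
    ∀ (E : Subalgebra K (R K V)), IsField E → (Module.finrank K E).Prime →
    (∀ X ∈ E, ∃ Y ∈ E, b.Adj X Y) → (∀ f ∈ S, ∀ X ∈ E, f X ∈ E) → FiveB b S

/-- tensor decompositions `V = U ⊗ Y`: the subalgebra `Φ(B ⊗ 1)` is stable under the adjoint and under `S` -/
def StmtBC4 : Prop :=
  ∀ (K : Type u) [Field K] [Finite K] (V : Type v) [AddCommGroup V] [Module K V] [Module.Finite K V] (b : Cl K V),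
    b.Big → ∀ S : Subgroup (Equiv.Perm (R K V)), S ≤ RB b → Group.IsSolvable S →
    ∀ (u' y : ℕ) (Φ : Matrix (Fin u' × Fin y) (Fin u' × Fin y) K ≃ₐ[K] R K V), 2 ≤ u' → 2 ≤ y →
    (∀ B : Matrix (Fin u') (Fin u') K, ∃ B' : Matrix (Fin u') (Fin u') K,
      b.Adj (Φ (Matrix.kroneckerMap (· * ·) B (1 : Matrix (Fin y) (Fin y) K)))
        (Φ (Matrix.kroneckerMap (· * ·) B' (1 : Matrix (Fin y) (Fin y) K)))) →
    (∀ f ∈ S, ∀ B : Matrix (Fin u') (Fin u') K, ∃ B' : Matrix (Fin u') (Fin u') K,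
      f (Φ (Matrix.kroneckerMap (· * ·) B (1 : Matrix (Fin y) (Fin y) K))) =
        Φ (Matrix.kroneckerMap (· * ·) B' (1 : Matrix (Fin y) (Fin y) K))) → FiveB b S

/-- extraspecial type normalizers -/
def StmtBC6 : Prop :=
  ∀ (K : Type u) [Field K] [Finite K] (V : Type v) [AddCommGroup V] [Module K V] [Module.Finite K V] (b : Cl K V),
    b.Big → ∀ S : Subgroup (Equiv.Perm (R K V)), S ≤ RB b → Group.IsSolvable S →
    ∀ (A : Subgroup (Equiv.Perm (R K V))) (r a : ℕ), C6Data S A r a → FiveB b S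

/-- **Classification** -/
def StmtBClass : Prop :=
  ∀ (K : Type u) [Field K] [Finite K] (V : Type v) [AddCommGroup V] [Module K V] [Module.Finite K V] (b : Cl K V),
    b.Big → ∀ S : Subgroup (Equiv.Perm (R K V)), S ≤ RB b → Group.IsSolvable S → S ⊓ IN K V ≠ ⊥ →
    (∃ W : Submodule K V, W ≠ ⊥ ∧ b.TI W ∧ ∀ f ∈ S, Stb f W) ∨
    ((∀ W : Submodule K V, b.TI W → (∀ f ∈ S, Stb f W) → W = ⊥) ∧
    ((∃ W : Submodule K V, W ≠ ⊥ ∧ W ≠ ⊤ ∧ b.ND W ∧ ∀ f ∈ S, Stb f W) ∨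
    (∃ (k d : ℕ) (e : Fin k → R K V), 2 ≤ k ∧ 1 ≤ d ∧ CompleteOrthogonalIdempotents e ∧ (∀ i, b.Adj (e i) (e i)) ∧
      (∀ i, Module.finrank K (LinearMap.range (e i)) = d) ∧
      ∀ f ∈ S, ∃ π : Equiv.Perm (Fin k), ∀ i, f (e i) = e (π i)) ∨
    (∃ e : Fin 2 → R K V, CompleteOrthogonalIdempotents e ∧ b.Adj (e 0) (e 1) ∧
      ∀ f ∈ S, ∃ π : Equiv.Perm (Fin 2), ∀ i, f (e i) = e (π i)) ∨
    (∃ E : Subalgebra K (R K V), IsField E ∧ (Module.finrank K E).Prime ∧ (∀ X ∈ E, ∃ Y ∈ E, b.Adj X Y) ∧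
      ∀ f ∈ S, ∀ X ∈ E, f X ∈ E) ∨
    (∃ (u' y : ℕ) (Φ : Matrix (Fin u' × Fin y) (Fin u' × Fin y) K ≃ₐ[K] R K V), 2 ≤ u' ∧ 2 ≤ y ∧
      (∀ B : Matrix (Fin u') (Fin u') K, ∃ B' : Matrix (Fin u') (Fin u') K,
        b.Adj (Φ (Matrix.kroneckerMap (· * ·) B (1 : Matrix (Fin y) (Fin y) K)))
          (Φ (Matrix.kroneckerMap (· * ·) B' (1 : Matrix (Fin y) (Fin y) K)))) ∧
      ∀ f ∈ S, ∀ B : Matrix (Fin u') (Fin u') K, ∃ B' : Matrix (Fin u') (Fin u') K,
        f (Φ (Matrix.kroneckerMap (· * ·) B (1 : Matrix (Fin y) (Fin y) K))) =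
          Φ (Matrix.kroneckerMap (· * ·) B' (1 : Matrix (Fin y) (Fin y) K))) ∨
    (∃ (A : Subgroup (Equiv.Perm (R K V))) (r a : ℕ), C6Data S A r a)))

/-- semilinear similitudes: every element of `RB b` is induced by one -/
def StmtBSN : Prop :=
  ∀ (K : Type u) [Field K] (V : Type v) [AddCommGroup V] [Module K V] [Module.Finite K V] (b : Cl K V),
    1 ≤ Module.finrank K V → ∀ f ∈ RB b, ∃ (g : Equiv.Perm V) (σ : K ≃+* K) (μ : K), μ ≠ 0 ∧
      (∀ v w, g (v + w) = g v + g w) ∧ (∀ (a : K) (v : V), g (a • v) = σ a • g v) ∧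
      (∀ v w, b.B (g v) (g w) = μ * σ (b.B v w)) ∧
      ∀ (X : R K V) (v : V), f X (g v) = g (X v)

/-- `PSp₄(2^f)`, `f ≥ 2`: solvable groups of automorphisms not contained in `PΓSp₄` (with the linear part in `RB`
done by `ThmB`) -/
def StmtSp4G : Prop :=
  ∀ (F : Type) [Field F] [Fintype F], CharP F 2 → 4 ≤ Fintype.card F → FiveAut (Cfsg.PSp 2 F)

/-- S5764 from the three families -/
def StmtMain : Prop := StmtAutL → StmtAutU → StmtAutSp →
  ∀ {G : Type u} [Group G] [Finite G] (T : Subgroup G) (_ : T.Normal) (_ : IsSimpleGroup ↥T)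
    (_ : ¬ IsMulCommutative ↥T) (_ : Subgroup.centralizer (T : Set G) = ⊥)
    (_ : Cfsg.IsPSL ↥T ∨ Cfsg.IsPSU ↥T ∨ Cfsg.IsPSp ↥T) (S : Subgroup G) (_ : Group.IsSolvable ↥S),
    ∃ x₁ x₂ x₃ x₄ : G, S ⊓ (S).map (MulAut.conj x₁).toMonoidHom ⊓ (S).map (MulAut.conj x₂).toMonoidHom ⊓
      (S).map (MulAut.conj x₃).toMonoidHom ⊓ (S).map (MulAut.conj x₄).toMonoidHom = ⊥

end Cfsg.Agent.H198.FC
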